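import Groth.Agent.Reductive2.MultTypeSpec
import Groth.Agent.Reductive.BaseChangeMT
import Groth.Agent.Reductive.ExtMT.Field
import Groth.Agent.Reductive.ClopenDescent
import Groth.Agent.Sga3.MultType

/-!
Hopf algebras of multiplicative type over a ring give group schemes of multiplicative type, and being
of multiplicative type is local on the base.
-/

set_option autoImplicit false
universe u

open CategoryTheory CategoryTheory.Limits MonoidalCategory CartesianMonoidalCategory MonObj GrpObj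
  AlgebraicGeometry
open scoped TensorProduct

noncomputable section

namespace Groth.Reductive.MTCrit

section Locality

variable {S : Scheme.{u}} {H : Over S} [GrpObj H]

/-- Multiplicative type is local for open covers of the base. -/
theorem isMultTypeFT_of_cover {I : Type u} (T : I → Scheme.{u}) (g : ∀ i, T i ⟶ S)
    [∀ i, IsOpenImmersion (g i)] (hg : ∀ s : S, ∃ i, s ∈ Set.range (g i).base)
    (h : ∀ i, SGA3x.IsMultTypeFT (Red.bc (g i) H)) : SGA3x.IsMultTypeFT H := by
  choose S' f hflat hsurj hqc hloc using h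
  let F : (∐ S') ⟶ S := Sigma.desc fun i ↦ f i ≫ g i
  have hF : ∀ i, Sigma.ι S' i ≫ F = f i ≫ g i := fun i ↦ Sigma.ι_desc _ _
  refine ⟨∐ S', F, ?_, ⟨fun s ↦ ?_⟩, fun V hV ↦ ?_, fun x ↦ ?_⟩
  · refine IsZariskiLocalAtSource.sigmaDesc fun i ↦ ?_
    haveI := hflat i
    infer_instance
  · obtain ⟨i, t, rfl⟩ := hg s
    obtain ⟨y, rfl⟩ := (hsurj i).surj t
    exact ⟨Sigma.ι S' i y, by rw [← Scheme.Hom.comp_apply, hF, Scheme.Hom.comp_apply]⟩
  · have h1 : ∀ s : V, ∃ (i : I) (D : (T i).Opens), IsAffineOpen D ∧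
        (s : S) ∈ (g i).base '' (D : Set (T i)) ∧ (g i).base '' (D : Set (T i)) ⊆ V := by
      rintro ⟨s, hs⟩
      obtain ⟨i, t, ht⟩ := hg s
      obtain ⟨D, hD, htD, hDV⟩ := exists_isAffineOpen_mem_and_subset (x := t) (U := g i ⁻¹ᵁ V)
        (show g i t ∈ V from ht ▸ hs)
      exact ⟨i, D, hD, ⟨t, htD, ht⟩, Set.image_subset_iff.2 hDV⟩
    choose i D hD hsD hDV using h1
    obtain ⟨F₀, hF₀⟩ := hV.isCompact.elim_finite_subcover
      (fun s ↦ (g (i s)).base '' (D s : Set (T (i s))))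
      (fun s ↦ (g (i s)).isOpenEmbedding.isOpenMap _ (D s).isOpen)
      (fun s hs ↦ Set.mem_iUnion.2 ⟨⟨s, hs⟩, hsD _⟩)
    choose W hWc hWi using fun s : V ↦ hqc (i s) (D s) (hD s)
    refine ⟨⨆ s ∈ F₀, (Sigma.ι S' (i s)) ''ᵁ (W s), ?_, ?_⟩
    · simp only [TopologicalSpace.Opens.coe_iSup]
      exact F₀.isCompact_biUnion fun s _ ↦ (hWc s).image (Sigma.ι S' (i s)).continuous
    · simp only [TopologicalSpace.Opens.coe_iSup, Set.image_iUnion]
      have h2 : ∀ s, F.base '' ((Sigma.ι S' (i s)) ''ᵁ (W s) : Set _) =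
          (g (i s)).base '' (D s : Set (T (i s))) := fun s ↦ by
        rw [← hWi s, ← Set.image_comp]
        show F.base '' ((Sigma.ι S' (i s)).base '' _) = _
        rw [← Set.image_comp]
        refine Set.image_congr' fun y ↦ ?_
        show F (Sigma.ι S' (i s) y) = g (i s) (f (i s) y)
        rw [← Scheme.Hom.comp_apply, hF, Scheme.Hom.comp_apply]
      refine subset_antisymm (Set.iUnion₂_subset fun s _ ↦ (h2 s).trans_subset (hDV s)) fun s hs ↦ ?_
      obtain ⟨s', hs', hs''⟩ := Set.mem_iUnion₂.1 (hF₀ hs)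
      exact Set.mem_iUnion₂.2 ⟨s', hs', (h2 s').ge hs''⟩
  · obtain ⟨⟨i, y⟩, rfl⟩ := (sigmaMk S').surjective x
    rw [sigmaMk_mk] at *
    obtain ⟨U, hU, M, iM, hM, ⟨e⟩⟩ := hloc i y
    let U' : (∐ S').Opens := (Sigma.ι S' i) ''ᵁ U
    refine ⟨U', ⟨y, hU, rfl⟩, M, iM, hM, ?_⟩
    let j : (U' : Scheme.{u}) ⟶ (U : Scheme.{u}) := ((Sigma.ι S' i).isoImage U).inv
    let e' : Red.DS (U : Scheme.{u}) M ≅ Red.bc (U.ι ≫ f i) (Red.bc (g i) H) := (Grp.forget _).mapIso e.symm
    haveI : IsMonHom e'.hom := inferInstanceAs (IsMonHom e.inv.hom.hom)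
    obtain ⟨b, hb⟩ := Groth.Reductive.FreeDiag.exists_bc_comp_iso H (U.ι ≫ f i) (g i)
    haveI := hb
    haveI : IsMonHom (e' ≪≫ b).hom := by rw [Iso.trans_hom]; infer_instance
    obtain ⟨a, ha⟩ := Groth.Reductive.FreeDiag.exists_trivialisation_comp H j
      ((U.ι ≫ f i) ≫ g i) (e' ≪≫ b)
    have heq : j ≫ (U.ι ≫ f i) ≫ g i = U'.ι ≫ F := by
      rw [Category.assoc, ← hF, Scheme.Hom.isoImage_inv_ι_assoc]
    revert a
    rw [heq]
    intro a ha
    haveI := ha
    exact ⟨(Grp.mkIso' a).symm⟩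

end Locality

section Spec

variable {k : Type u} [CommRing k] (B : Type u) [CommRing B] [HopfAlgebra k B] (K : Type u) [CommRing K]
  [Algebra k K]

/-- A bialgebra map gives a homomorphism of groups. -/
theorem isMonHom_pt_bialg {A C : Type u} [CommRing A] [HopfAlgebra k A] [CommRing C] [HopfAlgebra k C]
    (φ : A →ₐc[k] C) : IsMonHom (CoactBr.pt (φ : A →ₐ[k] C)) := by
  refine Groth.AlgGrp2.isMonHom_of_pt _ fun g h => ?_
  obtain ⟨g, rfl⟩ := Groth.AlgGrp2.pt_surjective g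
  obtain ⟨h, rfl⟩ := Groth.AlgGrp2.pt_surjective h
  rw [CoactBr.pt_mul_pt, ← CoactBr.pt_comp, ← CoactBr.pt_comp, ← CoactBr.pt_comp, CoactBr.pt_mul_pt]
  refine congrArg CoactBr.pt (AlgHom.ext fun a => ?_)
  simp only [AlgHom.comp_apply, Bialgebra.comulAlgHom_apply, BialgHom.coe_toAlgHom]
  rw [← CoalgHomClass.map_comp_comul_apply φ a]
  generalize Coalgebra.comul (R := k) a = z
  induction z using TensorProduct.induction_on with
  | zero => simp
  | tmul x y => simp
  | add x y hx hy => simp only [map_add, hx, hy]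

/-- The base change of the spectrum of a Hopf algebra. -/
def bcMap : CoactBr.sp K (K ⊗[k] B) ⟶ Red.bc (Groth.AlgGrp2.str k K) (CoactBr.sp k B) :=
  Groth.AlgGrp2.bcPtInv _ ((Groth.AlgGrp2.mapSpIso k K (K ⊗[k] B)).hom ≫
    CoactBr.pt (Algebra.TensorProduct.includeRight : B →ₐ[k] K ⊗[k] B))

theorem affPt_bcMap : Groth.AlgGrp2.affPt k (bcMap B K) =
    CoactBr.pt (Algebra.TensorProduct.includeRight : B →ₐ[k] K ⊗[k] B) := by
  simp [Groth.AlgGrp2.affPt, bcMap]

instance isIso_bcMap : IsIso (bcMap (k := k) B K) := by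
  let χ : B ⊗[k] K →+* K ⊗[k] B := (Algebra.TensorProduct.comm k B K).toRingEquiv.toRingHom
  let m : Spec (CommRingCat.of (K ⊗[k] B)) ⟶
      pullback (Spec.map (CommRingCat.ofHom (algebraMap k B))) (Spec.map (CommRingCat.ofHom (algebraMap k K))) :=
    Spec.map (CommRingCat.ofHom χ) ≫ (pullbackSpecIso k B K).inv
  have hχ : IsIso (CommRingCat.ofHom χ) :=
    (Algebra.TensorProduct.comm k B K).toRingEquiv.toCommRingCatIso.isIso_hom
  have hm : IsIso m := inferInstanceAs (IsIso (Spec.map (CommRingCat.ofHom χ) ≫ (pullbackSpecIso k B K).inv))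
  let l : Spec (CommRingCat.of (K ⊗[k] B)) ⟶
      pullback (Spec.map (CommRingCat.ofHom (algebraMap k B))) (Spec.map (CommRingCat.ofHom (algebraMap k K))) :=
    (bcMap (k := k) B K).left
  have h : l = m := by
    apply pullback.hom_ext
    · have e1 := congrArg CommaMorphism.left (affPt_bcMap (k := k) B K)
      simp only [Groth.AlgGrp2.affPt, Groth.AlgGrp2.bcPt, Over.mapPullbackAdj, Adjunction.mkOfHomEquiv_homEquiv,
        Equiv.coe_fn_symm_mk] at e1
      refine Eq.trans ((Category.id_comp _).symm.trans e1) ?_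
      show (Spec.map (CommRingCat.ofHom (Algebra.TensorProduct.includeRight : B →ₐ[k] K ⊗[k] B).toRingHom) :
          Spec (CommRingCat.of (K ⊗[k] B)) ⟶ Spec (CommRingCat.of B)) =
        (Spec.map (CommRingCat.ofHom χ) ≫ (pullbackSpecIso k B K).inv) ≫ _
      rw [Category.assoc]
      erw [pullbackSpecIso_inv_fst]
      rw [← Spec.map_comp]
      congr 1
    · refine (Over.w (bcMap (k := k) B K)).trans ?_
      show Spec.map _ = (Spec.map (CommRingCat.ofHom χ) ≫ (pullbackSpecIso k B K).inv) ≫ _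
      rw [Category.assoc, pullbackSpecIso_inv_snd, ← Spec.map_comp]
      congr 1
  have : IsIso l := h ▸ hm
  have : IsIso ((Over.forget _).map (bcMap (k := k) B K)) := this
  exact isIso_of_reflects_iso (bcMap (k := k) B K) (Over.forget _)

instance isMonHom_bcMap : IsMonHom (bcMap (k := k) B K) := by
  refine Groth.AlgGrp2.isMonHom_of_pt _ fun g h => ?_
  obtain ⟨φ, rfl⟩ := Groth.AlgGrp2.pt_surjective g
  obtain ⟨ψ, rfl⟩ := Groth.AlgGrp2.pt_surjective h
  apply Groth.AlgGrp2.affPt_injective (R := k)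
  rw [Groth.AlgGrp2.affPt_mul, CoactBr.pt_mul_pt, Groth.AlgGrp2.affPt_comp, Groth.AlgGrp2.affPt_comp,
    Groth.AlgGrp2.affPt_comp, affPt_bcMap, ← CoactBr.pt_comp, ← CoactBr.pt_comp, ← CoactBr.pt_comp,
    CoactBr.pt_mul_pt]
  congr 1
  apply AlgHom.ext
  intro b
  simp only [AlgHom.comp_apply, AlgHom.restrictScalars_apply, Algebra.TensorProduct.includeRight_apply,
    Bialgebra.comulAlgHom_apply, TensorProduct.comul_tmul, CommSemiring.comul_apply]
  induction Coalgebra.comul (R := k) b using TensorProduct.induction_on with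
  | zero => simp
  | tmul x y => simp
  | add x y hx hy => simp only [map_add, TensorProduct.tmul_add, hx, hy]

/-- A Hopf algebra diagonalisable after one faithfully flat extension of the base ring. -/
theorem isMultTypeFT_sp_const [Algebra.FiniteType k B] (h : SGA3b.IsMultTypeConst k B) :
    SGA3x.IsMultTypeFT (CoactBr.sp k B) := by
  obtain ⟨K, _, _, hff, M, _, ⟨φ⟩⟩ := h
  have hs : Surjective (Groth.AlgGrp2.str k K) :=
    ⟨fun x ↦ PrimeSpectrum.comap_surjective_of_faithfullyFlat x⟩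
  have hf : Flat (Groth.AlgGrp2.str k K) :=
    Flat.SpecMap_iff.mpr (RingHom.flat_algebraMap_iff.mpr inferInstance)
  refine ⟨Spec (CommRingCat.of K), Groth.AlgGrp2.str k K, hf, hs, fun V hV ↦ ⟨_,
    (hV.preimage (Groth.AlgGrp2.str k K)).isCompact, Set.image_preimage_eq _ hs.surj⟩, fun s' ↦ ?_⟩
  haveI : Nontrivial K := (s' : PrimeSpectrum K).nontrivial
  have hft : Algebra.FiniteType K (MonoidAlgebra K M) :=
    (inferInstance : Algebra.FiniteType K (K ⊗[k] B)).equiv (φ : K ⊗[k] B ≃ₐ[K] MonoidAlgebra K M)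
  obtain ⟨M₀, _, hfg, ⟨eM⟩⟩ := Groth.Reductive2.MTSpec.exists_small M (MonoidAlgebra.finiteType_iff_group_fg.mp hft)
  refine ⟨⊤, trivial, M₀, inferInstance, hfg, ?_⟩
  let ψ : MonoidAlgebra K (Multiplicative M₀) ≃ₐc[K] K ⊗[k] B :=
    (MonoidAlgebra.domCongrBialgEquiv K K eM.symm).trans φ.symm
  let eψ : CoactBr.sp K (K ⊗[k] B) ≅ CoactBr.sp K (MonoidAlgebra K (Multiplicative M₀)) :=
    { hom := CoactBr.pt ((ψ : MonoidAlgebra K (Multiplicative M₀) →ₐc[K] K ⊗[k] B) :
        MonoidAlgebra K (Multiplicative M₀) →ₐ[K] K ⊗[k] B)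
      inv := CoactBr.pt ((ψ.symm : K ⊗[k] B →ₐc[K] MonoidAlgebra K (Multiplicative M₀)) :
        K ⊗[k] B →ₐ[K] MonoidAlgebra K (Multiplicative M₀))
      hom_inv_id := by
        rw [← CoactBr.pt_comp, ← CoactBr.pt_id]; congr 1; ext x; simp
      inv_hom_id := by
        rw [← CoactBr.pt_comp, ← CoactBr.pt_id]; congr 1; ext x; simp }
  have : IsMonHom eψ.hom := isMonHom_pt_bialg _
  have : IsMonHom eψ.inv := isMonHom_pt_bialg _
  let e0 : Red.diag K M₀ ≅ Red.bc (Groth.AlgGrp2.str k K) (CoactBr.sp k B) :=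
    eψ.symm ≪≫ asIso (bcMap (k := k) B K)
  have : IsMonHom e0.hom := by
    simp only [e0, Iso.trans_hom, Iso.symm_hom, asIso_hom]
    infer_instance
  let e' : Red.DS (Spec (CommRingCat.of K)) M₀ ≅ Red.bc (Groth.AlgGrp2.str k K) (CoactBr.sp k B) :=
    (Groth.AlgGrp2.diagIsoDS K M₀).symm ≪≫ e0
  have : IsMonHom e'.hom := by
    simp only [e', Iso.trans_hom, Iso.symm_hom]
    infer_instance
  obtain ⟨i, hi⟩ := Groth.Reductive.FreeDiag.exists_trivialisation_comp (CoactBr.sp k B)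
    (⊤ : (Spec (CommRingCat.of K)).Opens).ι (Groth.AlgGrp2.str k K) e'
  haveI := hi
  exact ⟨(Grp.mkIso' i).symm⟩

/-- A Hopf algebra of multiplicative type gives a group scheme of multiplicative type. -/
theorem isMultTypeFT_sp [Algebra.FiniteType k B] (h : SGA3b.IsMultType k B) :
    SGA3x.IsMultTypeFT (CoactBr.sp k B) := by
  obtain ⟨s, hs, hf⟩ := h
  haveI : ∀ f : k, IsOpenImmersion (Groth.AlgGrp2.str k (Localization.Away f)) := fun f ↦
    IsOpenImmersion.of_isLocalization f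
  refine isMultTypeFT_of_cover (fun f : s ↦ Spec (CommRingCat.of (Localization.Away (f : k))))
    (fun f ↦ Groth.AlgGrp2.str k (Localization.Away (f : k))) (fun x ↦ ?_) fun f ↦
      ExtMT.isMultTypeFT_of_iso (asIso (bcMap (k := k) B (Localization.Away (f : k))))
        (isMultTypeFT_sp_const (Localization.Away (f : k) ⊗[k] B) (hf _ f.2))
  obtain ⟨f, hfs, hfx⟩ : ∃ f ∈ s, f ∉ (x : PrimeSpectrum k).asIdeal := by
    by_contra hh
    push Not at hh
    exact (x : PrimeSpectrum k).isPrime.ne_top (top_le_iff.1 (hs ▸ Ideal.span_le.2 hh))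
  refine ⟨⟨f, hfs⟩, ?_⟩
  show x ∈ Set.range (PrimeSpectrum.comap (algebraMap k (Localization.Away f)))
  rw [PrimeSpectrum.localization_away_comap_range (Localization.Away f) f]
  exact hfx

end Spec

end Groth.Reductive.MTCrit
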