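import Groth.Agent.Reductive.MTLocTriv
import Groth.Agent.Reductive.FpqcLocal
import Groth.Agent.Reductive.FreeDiagDescent
import Groth.Agent.Reductive.FreeDiagScheme
import Groth.Agent.Reductive.BaseChangeMT
import Groth.Agent.EtaleBase.FpqcDescent
import Groth.Agent.Reductive.TrivialLocus
import Groth.Prelude.Def_Red2

/-!
The kernels of the power maps of a group of multiplicative type and of finite type are finite.
-/

set_option autoImplicit false
universe u

open CategoryTheory MonoidalCategory CartesianMonoidalCategory MonObj GrpObj AlgebraicGeometry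
open Groth.Reductive Groth.Reductive.FreeDiag

noncomputable section

namespace Groth.Reductive.MTCrit

variable {S : Scheme.{u}}

/-- The group `D(M)` of a finite `M` is finite. -/
theorem isFinite_DS (M : Type) [AddCommGroup M] [Finite M] : IsFinite (Red.DS S M).hom := by
  refine MorphismProperty.pullback_snd _ _ ?_
  show IsFinite (Spec.map _)
  rw [IsFinite.SpecMap_iff]
  exact RingHom.finite_algebraMap.2 (Module.Finite.of_basis (MonoidAlgebra.basis _ _))

/-- The kernels of the powers of a group of multiplicative type and of finite type are finite. -/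
theorem isFinite_kernel_pow {H : Over S} [GrpObj H] (hH : SGA3x.IsMultTypeFT H) {n : ℕ} (hn : 0 < n) :
    IsFinite (Limits.pullback.fst (𝟙 H ^ n : H ⟶ H).left η[H].left ≫ H.hom) := by
  haveI : IsAffineHom H.hom := (Groth.Reductive.MTInt.locTriv_of_multTypeFT hH).1
  haveI : IsClosedImmersion η[H].left := by
    haveI : IsClosedImmersion (η[H].left ≫ H.hom) := by
      rw [Over.w η[H]]
      exact MorphismProperty.id_mem @IsClosedImmersion _
    exact MorphismProperty.of_postcomp (W := @IsClosedImmersion) (W' := @IsSeparated) η[H].left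
      H.hom inferInstance inferInstance
  obtain ⟨S', f, hflat, hsurj, hqc, hloc⟩ := hH
  refine Groth.Reductive.of_fpqc_locally @IsFinite inferInstance _ f hflat hqc fun s' ↦ ?_
  obtain ⟨U, hU, M, iM, hM, ⟨e⟩⟩ := hloc s'
  refine ⟨U, hU, ?_⟩
  let g := U.ι ≫ f
  let a := Limits.pullback.fst (𝟙 H ^ n : H ⟶ H).left η[H].left
  let P := Limits.pullback (a ≫ H.hom) g
  let k : P ⟶ Limits.pullback H.hom g := Limits.pullback.map _ _ _ _ a (𝟙 _) (𝟙 _)
    (Category.comp_id _) (by simp)
  have hk : IsPullback k (Limits.pullback.fst (a ≫ H.hom) g) (Limits.pullback.fst H.hom g) a := by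
    have h1 : k ≫ Limits.pullback.fst H.hom g = Limits.pullback.fst (a ≫ H.hom) g ≫ a :=
      Limits.pullback.lift_fst _ _ _
    have h2 : k ≫ Limits.pullback.snd H.hom g = Limits.pullback.snd (a ≫ H.hom) g :=
      (Limits.pullback.lift_snd _ _ _).trans (Category.comp_id _)
    have outer : IsPullback (k ≫ Limits.pullback.snd H.hom g) (Limits.pullback.fst (a ≫ H.hom) g) g
        (a ≫ H.hom) := by
      rw [h2]
      exact (IsPullback.of_hasPullback _ _).flip
    exact IsPullback.of_right outer h1 (IsPullback.of_hasPullback H.hom g).flip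
  haveI : IsClosedImmersion k := MorphismProperty.of_isPullback hk.flip inferInstance
  let Q : Over (U : Scheme.{u}) := Over.mk (Limits.pullback.snd (a ≫ H.hom) g)
  let x : Q ⟶ Red.bc g H := Over.homMk k ((Limits.pullback.lift_snd _ _ _).trans (Category.comp_id _))
  have hx : x ^ n = 1 := by
    apply (bcPointEquiv g H Q).injective
    rw [map_pow, map_one]
    let w : (Over.map g).obj Q ⟶ H := bcPointEquiv g H Q x
    show w ^ n = 1
    rw [← Category.comp_id w, ← MonObj.comp_pow, Hom.one_def]
    refine Over.OverMorphism.ext ?_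
    rw [Over.comp_left, Over.comp_left]
    have hw : w.left = Limits.pullback.fst (a ≫ H.hom) g ≫ a := by
      show (qPt g x).left = _
      simp only [qPt, Over.mapPullbackAdj, Adjunction.mkOfHomEquiv_homEquiv, Equiv.coe_fn_symm_mk, x,
        Over.homMk_left]
      exact Limits.pullback.lift_fst _ _ _
    have hc : a ≫ (𝟙 H ^ n : H ⟶ H).left =
        Limits.pullback.snd (𝟙 H ^ n : H ⟶ H).left η[H].left ≫ η[H].left := Limits.pullback.condition
    have hb : Limits.pullback.snd (𝟙 H ^ n : H ⟶ H).left η[H].left = a ≫ H.hom := by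
      have := congrArg (· ≫ H.hom) hc
      simp only [Category.assoc, Over.w] at this
      exact (Category.comp_id _).symm.trans this.symm
    rw [hw, Category.assoc, hc, hb]
    show _ = (Limits.pullback.snd (a ≫ H.hom) g ≫ g) ≫ _
    rw [← Limits.pullback.condition]
    simp only [Category.assoc]
  let e' : Red.DS (U : Scheme.{u}) M ≅ Red.bc g H := (Grp.forget _).mapIso e.symm
  haveI : IsMonHom e'.hom := inferInstanceAs (IsMonHom e.inv.hom.hom)
  have hei : IsMonHom e'.inv := inferInstance
  let χ := dsValHom (x ≫ e'.inv)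
  have hχ : ∀ m : M, χ (Multiplicative.ofAdd (n • m)) = 1 := by
    intro m
    have h0 : (x ^ n) ≫ e'.inv = (x ≫ e'.inv) ^ n := @MonObj.pow_comp _ _ _ _ _ _ _ _ x n e'.inv hei
    have h1 : (x ≫ e'.inv) ^ n = 1 := by rw [← h0, hx, @MonObj.one_comp _ _ _ _ _ _ _ _ e'.inv hei]
    have h2 : ∀ j : ℕ, dsVal ((x ≫ e'.inv) ^ j) (Multiplicative.ofAdd m) =
        dsVal (x ≫ e'.inv) (Multiplicative.ofAdd m) ^ j := by
      intro j
      induction j with
      | zero => rw [pow_zero, pow_zero, dsVal_one]
      | succ j ih => rw [pow_succ, pow_succ, dsVal_mul, ih]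
    have h3 := h2 n
    rw [h1] at h3
    rw [ofAdd_nsmul, map_pow]
    exact (h3.symm).trans (dsVal_one _ _)
  let N : AddSubgroup M := (nsmulAddMonoidHom (α := M) n).range
  haveI : AddGroup.FG M := hM
  haveI : Finite (M ⧸ N) := AddCommGroup.finite_of_fg_isAddTorsion _ fun y ↦ by
      obtain ⟨m, rfl⟩ := QuotientAddGroup.mk_surjective y
      refine isOfFinAddOrder_iff_nsmul_eq_zero.2 ⟨n, hn, ?_⟩
      rw [← QuotientAddGroup.mk_nsmul]
      exact (QuotientAddGroup.eq_zero_iff _).2 ⟨m, rfl⟩
  let ψ : Multiplicative (M ⧸ N) →* Γ(Q.left, ⊤) :=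
    { toFun := fun y ↦ Quotient.liftOn' (Multiplicative.toAdd y) (fun m ↦ χ (Multiplicative.ofAdd m))
        fun m m' h ↦ by
          have hmem := QuotientAddGroup.leftRel_apply.1 h
          obtain ⟨l, hl⟩ := hmem
          replace hl : n • l = -m + m' := hl
          have : m' = m + n • l := by rw [hl]; abel
          rw [this, ofAdd_add, map_mul, hχ, _root_.mul_one]
      map_one' := map_one χ
      map_mul' := fun y y' ↦ by
        obtain ⟨m, hm⟩ := QuotientAddGroup.mk_surjective (Multiplicative.toAdd y)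
        obtain ⟨m', hm'⟩ := QuotientAddGroup.mk_surjective (Multiplicative.toAdd y')
        simp only [toAdd_mul, ← hm, ← hm']
        exact map_mul χ (Multiplicative.ofAdd m) (Multiplicative.ofAdd m') }
  let inc : Red.DS (U : Scheme.{u}) (M ⧸ N) ⟶ Red.DS (U : Scheme.{u}) M :=
    dsMk _ ((dsValHom (𝟙 (Red.DS (U : Scheme.{u}) (M ⧸ N)))).comp
      (AddMonoidHom.toMultiplicative (QuotientAddGroup.mk' N)))
  let m' : Q ⟶ Red.DS (U : Scheme.{u}) (M ⧸ N) := dsMk Q ψ
  have hm' : m' ≫ inc = x ≫ e'.inv := dsVal_ext fun m ↦ by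
    rw [dsVal_comp, show dsVal inc m = dsVal (𝟙 _) ((AddMonoidHom.toMultiplicative (QuotientAddGroup.mk' N)) m)
      from dsVal_dsMk _ _ m, ← dsVal_comp, Category.comp_id, dsVal_dsMk]
    rfl
  haveI : IsIso e'.inv.left := inferInstanceAs (IsIso ((Over.forget _).map e'.inv))
  haveI : IsClosedImmersion (m'.left ≫ inc.left) := by
    rw [← Over.comp_left, hm', Over.comp_left]
    show IsClosedImmersion (k ≫ e'.inv.left)
    infer_instance
  haveI := isFinite_DS (S := (U : Scheme.{u})) (M ⧸ N)
  haveI : IsSeparated inc.left := by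
    haveI : IsSeparated (inc.left ≫ (Red.DS (U : Scheme.{u}) M).hom) := by rw [Over.w inc]; infer_instance
    exact IsSeparated.of_comp inc.left (Red.DS (U : Scheme.{u}) M).hom
  haveI : IsClosedImmersion m'.left := IsClosedImmersion.of_comp m'.left inc.left
  show IsFinite Q.hom
  rw [← Over.w m']
  infer_instance

end Groth.Reductive.MTCrit
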