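import Groth.Agent.Reductive.MTCrit.Spec
import Groth.Agent.Reductive2.MultTypeSplit
import Groth.Agent.Reductive.TrivialLocus
import Groth.Agent.AlgGrp1.AffineGrp
import Groth.Agent.Sga3.FibreCrit
import Mathlib.AlgebraicGeometry.Group.Affine

/-!
A commutative affine flat group scheme of finite presentation with fibres of multiplicative type and
finite torsion is of multiplicative type.
-/

set_option autoImplicit false
universe u

open CategoryTheory MonoidalCategory CartesianMonoidalCategory MonObj GrpObj AlgebraicGeometry Opposite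
open scoped TensorProduct

noncomputable section

namespace Groth.Reductive.MTCrit

variable {R : Type u} [CommRing R] {C : Type u} [CommRing C] [HopfAlgebra R C]

/-- The powers of the tautological point. -/
theorem pt_pow (n : ℕ) :
    CoactBr.pt (AlgHom.id R C) ^ n = CoactBr.pt (SGA3b.powConv R C n) := by
  induction n with
  | zero =>
    rw [pow_zero, CoactBr.one_eq_pt, SGA3b.powConv, pow_zero]
    exact congrArg CoactBr.pt (by ext a; simp [AlgHom.convOne_apply, Algebra.ofId_apply])
  | succ n ih =>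
    rw [pow_succ, ih, CoactBr.pt_mul_pt, SGA3b.powConv, SGA3b.powConv, pow_succ]
    refine congrArg CoactBr.pt ?_
    rw [AlgHom.convMul_def]
    simp only [WithConv.ofConv_toConv]
    rw [← AlgHom.comp_assoc]
    congr 1
    exact Algebra.TensorProduct.ext' fun a b ↦ by simp

/-- Cocommutativity of the Hopf algebra of a commutative group. -/
theorem isCocomm_of_comm
    (h : ∀ (X : Over (Spec (CommRingCat.of R))) (x y : X ⟶ CoactBr.sp R C), x * y = y * x) :
    Coalgebra.IsCocomm R C := by
  let l : C →ₐ[R] C ⊗[R] C := Algebra.TensorProduct.includeLeft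
  let r : C →ₐ[R] C ⊗[R] C := Algebra.TensorProduct.includeRight
  have h1 := h _ (CoactBr.pt l) (CoactBr.pt r)
  rw [CoactBr.pt_mul_pt, CoactBr.pt_mul_pt] at h1
  have h2 := CoactBr.pt_injective h1
  have hid : Algebra.TensorProduct.lift l r (fun _ _ => .all _ _) = AlgHom.id R _ :=
    Algebra.TensorProduct.ext' fun a b => by simp [l, r]
  have hcomm : Algebra.TensorProduct.lift r l (fun _ _ => .all _ _) =
      (Algebra.TensorProduct.comm R C C).toAlgHom :=
    Algebra.TensorProduct.ext' fun a b => by simp [l, r]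
  rw [hid, hcomm] at h2
  constructor
  ext a
  exact (DFunLike.congr_fun h2 a).symm

/-- The torsion closed subscheme is killed by the power map. -/
theorem pt_torsion_pow (n : ℕ) :
    CoactBr.pt (Ideal.Quotient.mkₐ R (SGA3b.torsionIdeal R C n)) ^ n = 1 := by
  let q := Ideal.Quotient.mkₐ R (SGA3b.torsionIdeal R C n)
  have h : CoactBr.pt q = CoactBr.pt q ≫ CoactBr.pt (AlgHom.id R C) := by
    rw [CoactBr.pt_id, Category.comp_id]
  show CoactBr.pt q ^ n = 1
  rw [h, ← MonObj.comp_pow, pt_pow, ← CoactBr.pt_comp, CoactBr.one_eq_pt]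
  refine congrArg CoactBr.pt (AlgHom.ext fun a ↦ ?_)
  simp only [AlgHom.comp_apply, Algebra.ofId_apply, Bialgebra.counitAlgHom_apply]
  rw [← (q.comp (SGA3b.powConv R C n)).commutes (Coalgebra.counit (R := R) a), AlgHom.comp_apply,
    ← sub_eq_zero, ← map_sub, ← map_sub]
  exact Ideal.Quotient.eq_zero_iff_mem.2 (Ideal.mem_map_of_mem _ (by simp [RingHom.mem_ker]))

variable {S : Scheme.{u}}

/-- The affine case. -/
theorem isMultTypeFT_affine {R : Type u} [CommRing R] (g : Spec (CommRingCat.of R) ⟶ S) (H : Over S)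
    [GrpObj H] [IsAffineHom H.hom] [Flat H.hom] [LocallyOfFinitePresentation H.hom]
    (hcomm : ∀ (X : Over S) (a b : X ⟶ H), a * b = b * a)
    (hfib : ∀ (K : Type u) [Field K] [IsAlgClosed K] (g : Spec (CommRingCat.of K) ⟶ S),
      SGA3x.IsMultTypeFT (Red.bc g H))
    (hfin : ∀ n : ℕ, 0 < n →
      IsFinite (Limits.pullback.fst (𝟙 H ^ n : H ⟶ H).left η[H].left ≫ H.hom)) :
    SGA3x.IsMultTypeFT (Red.bc g H) := by
  let G := Red.bc g H
  haveI : IsAffineHom G.hom := MorphismProperty.pullback_snd _ _ ‹_›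
  haveI : Flat G.hom := MorphismProperty.pullback_snd _ _ ‹_›
  haveI : LocallyOfFinitePresentation G.hom := MorphismProperty.pullback_snd _ _ ‹_›
  haveI : IsAffine G.left := isAffine_of_isAffineHom G.hom
  obtain ⟨A, ⟨f⟩⟩ : (hopfSpec (CommRingCat.of R)).essImage (⟨G⟩ : Grp (Over _)) :=
    essImage_hopfSpec.2 ‹_›
  let C : Type u := A.unop
  let e : CoactBr.sp R C ≅ G := (Grp.forget _).mapIso f
  haveI : IsMonHom e.hom := inferInstanceAs (IsMonHom f.hom.hom.hom)
  haveI : IsIso e.hom.left := inferInstanceAs (IsIso ((Over.forget _).map e.hom))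
  haveI : Algebra.FinitePresentation R C := by
    have h : LocallyOfFinitePresentation (CoactBr.sp R C).hom := by rw [← Over.w e.hom]; infer_instance
    exact RingHom.finitePresentation_algebraMap.1
      ((HasRingHomProperty.Spec_iff (P := @LocallyOfFinitePresentation)).1 h)
  haveI : Module.Flat R C := by
    have h : Flat (CoactBr.sp R C).hom := by rw [← Over.w e.hom]; infer_instance
    exact RingHom.flat_algebraMap_iff.1 ((HasRingHomProperty.Spec_iff (P := @Flat)).1 h)
  have hG : ∀ (X : Over (Spec (CommRingCat.of R))) (a b : X ⟶ G), a * b = b * a := fun X a b ↦ by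
    apply (Groth.Reductive.bcPointEquiv g H X).injective
    rw [map_mul, map_mul, hcomm]
  haveI : Coalgebra.IsCocomm R C := isCocomm_of_comm fun X a b ↦ by
    rw [← cancel_mono e.hom, MonObj.mul_comp, MonObj.mul_comp, hG]
  have hfibC : ∀ (p : Ideal R) [p.IsPrime], SGA3b.IsMultType p.ResidueField (p.ResidueField ⊗[R] C) := by
    intro p _
    let K := AlgebraicClosure p.ResidueField
    refine Groth.Sga3.MultType.isMultType_of_field_isDiag K
      (Groth.Sga3.MultType.isDiag_of_equiv (Groth.Sga3.MultType.cancelBC R p.ResidueField K C).symm ?_)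
    obtain ⟨j, hj⟩ := Groth.Reductive.FreeDiag.exists_bc_comp_iso H (Groth.AlgGrp2.str R K) g
    haveI := hj
    let b : CoactBr.sp K (K ⊗[R] C) ≅ Red.bc (Groth.AlgGrp2.str R K ≫ g) H :=
      asIso (bcMap (k := R) C K) ≪≫ (Over.pullback (Groth.AlgGrp2.str R K)).mapIso e ≪≫ j
    haveI : IsMonHom b.hom := by
      simp only [b, Iso.trans_hom, asIso_hom, Functor.mapIso_hom]
      infer_instance
    haveI : IsMonHom b.symm.hom := by rw [Iso.symm_hom]; infer_instance
    obtain ⟨D, _, _, d, hd, hdiag⟩ := Groth.Reductive2.MTSplit.exists_diag_iso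
      (ExtMT.isMultTypeFT_of_iso b.symm (hfib K (Groth.AlgGrp2.str R K ≫ g)))
    haveI := hd
    obtain ⟨φ, hφ⟩ := Groth.AlgGrp1.exists_bialgHom_of_isMonHom d.hom
    refine Groth.Sga3.MultType.isDiag_of_equiv (BialgEquiv.ofBijective φ ?_).symm hdiag
    obtain ⟨ψ, hψ⟩ := Groth.AlgGrp2.pt_surjective d.inv
    have h1 : (φ : K ⊗[R] C →ₐ[K] D).comp ψ = AlgHom.id K D := CoactBr.pt_injective (by
      rw [CoactBr.pt_comp, hφ, hψ, CoactBr.pt_id, Iso.hom_inv_id])
    have h2 : ψ.comp (φ : K ⊗[R] C →ₐ[K] D) = AlgHom.id K _ := CoactBr.pt_injective (by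
      rw [CoactBr.pt_comp, hφ, hψ, CoactBr.pt_id, Iso.inv_hom_id])
    exact Function.bijective_iff_has_inverse.2 ⟨ψ, fun x ↦ AlgHom.congr_fun h2 x, fun x ↦ AlgHom.congr_fun h1 x⟩
  have hfinC : ∀ n : ℕ, 0 < n → Module.Finite R (C ⧸ SGA3b.torsionIdeal R C n) := by
    intro n hn
    haveI := hfin n hn
    let Q : Over (Spec (CommRingCat.of R)) := CoactBr.sp R (C ⧸ SGA3b.torsionIdeal R C n)
    let x : Q ⟶ G := CoactBr.pt (Ideal.Quotient.mkₐ R (SGA3b.torsionIdeal R C n)) ≫ e.hom
    have hx : x ^ n = 1 := by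
      rw [← MonObj.pow_comp, pt_torsion_pow, MonObj.one_comp]
    let y := Groth.Reductive.bcPointEquiv g H Q x
    have hy : y ≫ (𝟙 H ^ n) = 1 := by
      rw [MonObj.comp_pow, Category.comp_id, ← map_pow, hx, map_one]
    let m : Q.left ⟶ Limits.pullback (𝟙 H ^ n : H ⟶ H).left η[H].left :=
      Limits.pullback.lift y.left (Q.hom ≫ g) (by
        refine (congrArg (fun z ↦ z.left) hy).trans ?_
        rw [Hom.one_def]
        rfl)
    let P := Limits.pullback (Limits.pullback.fst (𝟙 H ^ n : H ⟶ H).left η[H].left ≫ H.hom) g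
    let m' : Q.left ⟶ P := Limits.pullback.lift m Q.hom (by
      rw [Limits.pullback.lift_fst_assoc]
      exact Over.w y)
    let k : P ⟶ G.left := Limits.pullback.map _ _ _ _
      (Limits.pullback.fst (𝟙 H ^ n : H ⟶ H).left η[H].left) (𝟙 _) (𝟙 _) (Category.comp_id _) (by simp)
    have hk : m' ≫ k = x.left := by
      refine Limits.pullback.hom_ext ?_ ?_
      · simp only [m', k, Category.assoc, Limits.pullback.lift_fst, Limits.pullback.lift_fst_assoc, m]
        rfl
      · simp only [m', k, Category.assoc, Limits.pullback.lift_snd, Limits.pullback.lift_snd_assoc,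
          Category.comp_id]
        exact (Over.w x).symm
    haveI : IsClosedImmersion (CoactBr.pt (Ideal.Quotient.mkₐ R (SGA3b.torsionIdeal R C n))).left :=
      IsClosedImmersion.spec_of_surjective _ Ideal.Quotient.mk_surjective
    haveI : IsClosedImmersion (m' ≫ k) := by
      rw [hk, Over.comp_left]
      infer_instance
    haveI : IsSeparated k := by
      haveI : IsSeparated (k ≫ G.hom) := by
        rw [show k ≫ G.hom = Limits.pullback.snd _ g from
          (Limits.pullback.lift_snd _ _ _).trans (Category.comp_id _)]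
        infer_instance
      exact IsSeparated.of_comp k G.hom
    haveI : IsClosedImmersion m' := IsClosedImmersion.of_comp m' k
    haveI : IsFinite (Limits.pullback.snd (Limits.pullback.fst (𝟙 H ^ n : H ⟶ H).left η[H].left ≫ H.hom) g) :=
      MorphismProperty.pullback_snd _ _ (hfin n hn)
    have hQ : IsFinite Q.hom := by
      rw [show Q.hom = m' ≫ Limits.pullback.snd _ g from (Limits.pullback.lift_snd _ _ _).symm]
      infer_instance
    exact RingHom.finite_algebraMap.1 ((IsFinite.SpecMap_iff (f := _)).1 hQ)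
  exact ExtMT.isMultTypeFT_of_iso e (isMultTypeFT_sp C (Groth.Sga3.FibreCrit.isMultType_of_fibres hfibC
    (fun T _ _ _ ↦ Groth.Sga3.FibreCrit.crit_of_torsion inferInstance hfinC T)))

/-- **Fibre criterion.** A commutative affine flat group scheme of finite presentation whose geometric
fibres are of multiplicative type and whose torsion subgroups are finite is of multiplicative type. -/
theorem isMultTypeFT_of_fibres (H : Over S) [GrpObj H] [IsAffineHom H.hom] [Flat H.hom]
    [LocallyOfFinitePresentation H.hom]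
    (hcomm : ∀ (X : Over S) (a b : X ⟶ H), a * b = b * a)
    (hfib : ∀ (K : Type u) [Field K] [IsAlgClosed K] (g : Spec (CommRingCat.of K) ⟶ S),
      SGA3x.IsMultTypeFT (Red.bc g H))
    (hfin : ∀ n : ℕ, 0 < n →
      IsFinite (Limits.pullback.fst (𝟙 H ^ n : H ⟶ H).left η[H].left ≫ H.hom)) :
    SGA3x.IsMultTypeFT H :=
  isMultTypeFT_of_cover (fun i ↦ S.affineCover.X i) (fun i ↦ S.affineCover.f i)
    (fun s ↦ ⟨_, S.affineCover.covers s⟩) fun i ↦
      isMultTypeFT_affine (S.affineCover.f i) H hcomm hfib hfin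

end Groth.Reductive.MTCrit
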