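import Groth.Agent.Reductive.MTCrit.Scheme
import Groth.Agent.Reductive.MTCrit.Torsion
import Groth.Agent.Reductive.MultTypeComm

/-!
Flat closed subgroups of groups of multiplicative type.
-/

set_option autoImplicit false
universe u

open CategoryTheory MonoidalCategory CartesianMonoidalCategory MonObj GrpObj AlgebraicGeometry
open scoped TensorProduct

noncomputable section

namespace Groth.Reductive.MTCrit

/-- Over an algebraically closed field, closed subgroups of groups of multiplicative type are of
multiplicative type. -/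
theorem isMultTypeFT_of_closed_field {k : Type u} [Field k] [IsAlgClosed k]
    {H H' : Over (Spec (CommRingCat.of k))} [GrpObj H] [GrpObj H'] [IsAffine H.left]
    [LocallyOfFiniteType H.hom] (hH' : SGA3x.IsMultTypeFT H') (i : H ⟶ H') [IsMonHom i]
    [IsClosedImmersion i.left] : SGA3x.IsMultTypeFT H := by
  obtain ⟨D, _, _, d, hd, ⟨M, _, ⟨ψ⟩⟩⟩ := Groth.Reductive2.MTSplit.exists_diag_iso hH'
  haveI := hd
  obtain ⟨A, _, _, _, e, he⟩ := Groth.AlgGrp1.exists_hopf_iso H
  haveI := he
  haveI : IsIso e.hom.left := inferInstanceAs (IsIso ((Over.forget _).map e.hom))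
  haveI : IsIso d.inv.left := inferInstanceAs (IsIso ((Over.forget _).map d.inv))
  obtain ⟨φ, hφ⟩ := Groth.AlgGrp1.exists_bialgHom_of_isMonHom (e.hom ≫ i ≫ d.inv)
  have hφs : Function.Surjective φ := by
    have hcl : IsClosedImmersion (CoactBr.pt (φ : D →ₐ[k] A)).left := by
      rw [hφ, Over.comp_left, Over.comp_left]; infer_instance
    rw [CoactBr.pt_left] at hcl
    have h1 : Function.Surjective (Spec.map (CommRingCat.ofHom (φ : D →ₐ[k] A).toRingHom)).appTop :=
      (@IsClosedImmersion.isAffine_surjective_of_isAffine _ _ _ (Spec.map (CommRingCat.ofHom (φ : D →ₐ[k] A).toRingHom)) hcl).2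
    intro c
    obtain ⟨b, hb⟩ := h1 ((Scheme.ΓSpecIso (CommRingCat.of A)).inv c)
    refine ⟨(Scheme.ΓSpecIso (CommRingCat.of D)).hom b, ?_⟩
    have hn := congrArg (fun t => (Scheme.ΓSpecIso (CommRingCat.of A)).hom t) hb
    have hnat := congrArg (fun m => m b) (Scheme.ΓSpecIso_naturality (CommRingCat.ofHom (φ : D →ₐ[k] A).toRingHom))
    simp only [CommRingCat.comp_apply] at hnat
    simp only [Iso.inv_hom_id_apply] at hn
    exact hnat.symm.trans hn
  refine ExtMT.isMultTypeFT_of_iso e (ExtMT.isMultTypeFT_sp_of_span (top_le_iff.1 fun a _ ↦ ?_))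
  obtain ⟨x, rfl⟩ := hφs a
  obtain ⟨y, hy⟩ : ∃ y, (ψ.symm : MonoidAlgebra k M →ₐc[k] D) y = x := ⟨ψ x, ψ.symm_apply_apply x⟩
  subst hy
  induction y using MonoidAlgebra.induction_linear with
  | zero => simp
  | add p q hp hq => simp only [map_add]; exact Submodule.add_mem _ (hp trivial) (hq trivial)
  | single m r =>
    rw [show MonoidAlgebra.single m r = r • MonoidAlgebra.single m (1 : k) by simp, map_smul, map_smul]
    exact Submodule.smul_mem _ _ (Submodule.subset_span
      (((MonoidAlgebra.isGroupLikeElem_single_one m).map (ψ.symm : MonoidAlgebra k M →ₐc[k] D)).map φ))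

/-- Closed flat subgroups of finite presentation of groups of multiplicative type are of multiplicative
type. -/
theorem isMultTypeFT_of_closed {S : Scheme.{u}} {H H' : Over S} [GrpObj H] [GrpObj H']
    (hH' : SGA3x.IsMultTypeFT H') (i : H ⟶ H') [IsMonHom i] [IsClosedImmersion i.left] [Flat H.hom]
    [LocallyOfFinitePresentation H.hom] : SGA3x.IsMultTypeFT H := by
  haveI := (Groth.Reductive.MTInt.locTriv_of_multTypeFT hH').1
  haveI : IsAffineHom H.hom := by rw [← Over.w i]; infer_instance
  haveI : Mono i := Over.mono_of_mono_left i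
  refine isMultTypeFT_of_fibres H (fun X a b ↦ ?_) (fun K _ _ g ↦ ?_) fun n hn ↦ ?_
  · rw [← cancel_mono i, MonObj.mul_comp, MonObj.mul_comp, FreeDiag.comm_of_multTypeFT hH']
  · haveI : IsAffineHom (Red.bc g H).hom := MorphismProperty.pullback_snd _ _ ‹IsAffineHom H.hom›
    haveI : IsAffine (Red.bc g H).left := isAffine_of_isAffineHom (Red.bc g H).hom
    haveI : LocallyOfFiniteType (Red.bc g H).hom := MorphismProperty.pullback_snd _ _ inferInstance
    haveI : IsClosedImmersion ((Over.pullback g).map i).left := by
      have h1 : ((Over.pullback g).map i).left ≫ Limits.pullback.fst H'.hom g =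
          Limits.pullback.fst H.hom g ≫ i.left := Limits.pullback.lift_fst _ _ _
      have h2 : ((Over.pullback g).map i).left ≫ Limits.pullback.snd H'.hom g =
          Limits.pullback.snd H.hom g := Limits.pullback.lift_snd _ _ _
      have outer : IsPullback (((Over.pullback g).map i).left ≫ Limits.pullback.snd H'.hom g)
          (Limits.pullback.fst H.hom g) g (i.left ≫ H'.hom) := by
        rw [h2, Over.w i]
        exact (IsPullback.of_hasPullback H.hom g).flip
      exact MorphismProperty.of_isPullback
        (IsPullback.of_right outer h1 (IsPullback.of_hasPullback H'.hom g).flip).flip ‹_›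
    exact isMultTypeFT_of_closed_field (FreeDiag.isMultTypeFT_bc hH' g) ((Over.pullback g).map i)
  · have hfin := isFinite_kernel_pow hH' hn
    let P' := Limits.pullback (𝟙 H' ^ n : H' ⟶ H').left η[H'].left
    let a := Limits.pullback.fst (𝟙 H ^ n : H ⟶ H).left η[H].left
    let a' := Limits.pullback.fst (𝟙 H' ^ n : H' ⟶ H').left η[H'].left
    have hη : η[H] ≫ i = η[H'] := IsMonHom.one_hom i
    have hpow : (𝟙 H ^ n : H ⟶ H) ≫ i = i ≫ (𝟙 H' ^ n) := by
      rw [MonObj.pow_comp, MonObj.comp_pow, Category.id_comp, Category.comp_id]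
    let m : Limits.pullback (𝟙 H ^ n : H ⟶ H).left η[H].left ⟶ P' :=
      Limits.pullback.map _ _ _ _ i.left (𝟙 _) i.left
        (congrArg (fun z ↦ z.left) hpow) ((congrArg (fun z ↦ z.left) hη).trans (Category.id_comp _).symm)
    haveI : IsClosedImmersion η[H].left := by
      haveI : IsClosedImmersion (η[H].left ≫ H.hom) := by
        rw [Over.w η[H]]
        exact MorphismProperty.id_mem @IsClosedImmersion _
      exact MorphismProperty.of_postcomp (W := @IsClosedImmersion) (W' := @IsSeparated) η[H].left
        H.hom inferInstance inferInstance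
    haveI : IsClosedImmersion a := MorphismProperty.pullback_fst _ _ ‹IsClosedImmersion η[H].left›
    have hma : m ≫ a' = a ≫ i.left := Limits.pullback.lift_fst _ _ _
    haveI : IsClosedImmersion (m ≫ a') := by rw [hma]; infer_instance
    haveI : IsSeparated a' := by
      haveI : IsSeparated (a' ≫ H'.hom) := inferInstance
      exact IsSeparated.of_comp a' H'.hom
    haveI : IsClosedImmersion m := IsClosedImmersion.of_comp m a'
    rw [← Over.w i, ← Category.assoc, ← hma, Category.assoc]
    infer_instance

end Groth.Reductive.MTCrit
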